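import Groth.Agent.Krr.H460.PushTwistK
import Groth.Agent.Krr.H482.PullLambda
import Groth.Agent.Ega2.QCohLocal
import Mathlib.RingTheory.OrzechProperty

/-!
# The λ-ring `K(P^n_Y)` as a `K(Y)`-module, and the push-forward on it

Models `(KP, φP)` of `K(P^n_Y)`, `(KY, φY)` of `K(Y)`; `q = p^K : KY → KP` (`KRR.IsPull`), `g = p_K : KP → KY`
(`KRR.IsPushPr`).  `lin φP d` is the class of `O(d)`, `hyp φP = 1 - [O(-1)]`.
* `lin_zero`, `lin_add`, `isUnit_lin`, `lin_natCast`, `phi_twF : φP [F(d)] = lin d * φP [F]`;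
* `hyp_pow_eq_zero : hyp ^ (n + 1) = 0`;
* `push_q_mul_lin : g (q y * lin (k - n)) = C(k, n) • y`, `push_q_mul_hyp_pow : g (q y * hyp ^ i) = y` for `i ≤ n`;
* `exists_unique_lin`, `exists_unique_hyp`: every element of `KP` is uniquely `∑_{i ≤ n} q (y i) * lin i`, and uniquely
  `∑_{i ≤ n} q (y i) * hyp ^ i`.
-/

set_option autoImplicit false

universe v w u

open CategoryTheory CategoryTheory.Limits AlgebraicGeometry Finset

namespace Groth.Agent.Krr.H460.KPn

open Groth.Agent.Sga67.TwistOver Groth.Agent.Krr.H482.PullLambda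

variable {n : ℕ} {Y : Scheme.{u}}

/-- `O(d)` is finite locally free of rank one. -/
theorem isFinLocFreeOfRank_twistOver (d : ℤ) :
    FlatMod.IsFinLocFreeOfRank 1 (Twist.twistOver n Y d) :=
  Ega2.QCohLocal.isFinLocFreeOfRank_one_iff.mpr (Ega3B.ProjFrame.isInvertible_twistOver n d)

/-- `O(d)` is finite locally free. -/
theorem isFinLocFree_twistOver (d : ℤ) : FlatMod.IsFinLocFree (Twist.twistOver n Y d) :=
  isFinLocFree_of_rank (isFinLocFreeOfRank_twistOver d)

section Lin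

variable {KP : Type v} [CommRing KP] (φP : SGA6.Kvb (KRR.PY n Y) →+ KP)

/-- The class of `O(d)`. -/
noncomputable def lin (d : ℤ) : KP := φP (KRR.cl (KRR.PY n Y) (Twist.twistOver n Y d))

/-- The class `1 - [O(-1)]` of a hyperplane. -/
noncomputable def hyp : KP := 1 - lin φP (-1)

variable {φP} [LambdaRing.LambdaOps KP] {PP : LambdaRing.PosStructure KP}
  (hKP : KRR.IsModel (KRR.PY n Y) KP PP φP)

include hKP

/-- `[F(d)] = [O(d)] [F]`. -/
theorem phi_twF (d : ℤ) {F : (KRR.PY n Y).Modules} (hF : FlatMod.IsFinLocFree F) :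
    φP (KRR.cl (KRR.PY n Y) (KRR.twF n Y d F)) = lin φP d * φP (KRR.cl (KRR.PY n Y) F) :=
  (hKP.map_mul _ F (isFinLocFree_twistOver d) hF).symm

theorem lin_zero : lin φP 0 = 1 := by
  obtain ⟨e⟩ := nonempty_twistOver_zero n Y
  rw [← hKP.map_one]
  exact congrArg φP (cl_iso e (isFinLocFree_twistOver 0))

theorem lin_add (a b : ℤ) : lin φP (a + b) = lin φP a * lin φP b := by
  obtain ⟨e⟩ := nonempty_twistOver_mul n Y a b
  refine (congrArg φP (cl_iso e.symm (isFinLocFree_twistOver (a + b)))).trans ?_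
  exact phi_twF hKP a (isFinLocFree_twistOver b)

theorem lin_mul_lin_neg (a : ℤ) : lin φP a * lin φP (-a) = 1 := by
  rw [← lin_add hKP, add_neg_cancel, lin_zero hKP]

theorem isUnit_lin (a : ℤ) : IsUnit (lin φP a) :=
  IsUnit.of_mul_eq_one _ (lin_mul_lin_neg hKP a)

theorem lin_natCast (a : ℤ) (k : ℕ) : lin φP (k * a) = lin φP a ^ k := by
  induction k with
  | zero => simp [lin_zero hKP]
  | succ k ih =>
    rw [pow_succ, ← ih, ← lin_add hKP]
    congr 1
    push_cast
    ring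

theorem lin_nat (k : ℕ) : lin φP k = lin φP 1 ^ k := by
  rw [← lin_natCast hKP, mul_one]

theorem lin_neg_nat (k : ℕ) : lin φP (-(k : ℤ)) = lin φP (-1) ^ k := by
  rw [← lin_natCast hKP, mul_neg_one]

/-- `[F(d)] = [O(d)]` for `F = O_P`. -/
theorem phi_twF_structure (d : ℤ) :
    φP (KRR.cl (KRR.PY n Y) (KRR.twF n Y d (Coh.structureModule (KRR.PY n Y)))) = lin φP d := by
  rw [phi_twF hKP d Sga67.TensorOps.isFinLocFree_structureModule, hKP.map_one, mul_one]

theorem aug_lin (d : ℤ) : PP.aug (lin φP d) = 1 := by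
  exact_mod_cast hKP.aug_cl 1 _ (isFinLocFreeOfRank_twistOver d)

/-- `[O(d)]` is a line element. -/
theorem isLine_lin (d : ℤ) : PP.IsLine (lin φP d) :=
  ⟨(hKP.mem_pos_iff _).mpr ⟨1, _, le_rfl, isFinLocFreeOfRank_twistOver d, rfl⟩, aug_lin hKP d⟩

/-- `(1 - [O(-1)])^{n+1} = 0`. -/
theorem hyp_pow_eq_zero [CompactSpace ↥Y] : hyp φP ^ (n + 1) = 0 := by
  have h := congrArg φP (Koszul.koszul n Y _ Sga67.TensorOps.isFinLocFree_structureModule 0)
  rw [map_sum, map_zero] at h
  rw [hyp, sub_eq_neg_add, add_pow, ← h]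
  refine sum_congr rfl fun j hj => ?_
  rw [map_zsmul, ← PushTwistK.cl_twF_structure, phi_twF_structure hKP, zero_sub, lin_neg_nat hKP,
    one_pow, mul_one, neg_pow, zsmul_eq_mul]
  push_cast
  ring

end Lin

section Pull

variable {KP : Type v} [CommRing KP] {φP : SGA6.Kvb (KRR.PY n Y) →+ KP}
  [LambdaRing.LambdaOps KP] {PP : LambdaRing.PosStructure KP}
  (hKP : KRR.IsModel (KRR.PY n Y) KP PP φP)
  {KY : Type w} [CommRing KY] {φY : SGA6.Kvb Y →+ KY}
  [LambdaRing.LambdaOps KY] {PY : LambdaRing.PosStructure KY}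
  (hKY : KRR.IsModel Y KY PY φY)
  {q : KY →+ KP} (hq : KRR.IsPull (KRR.pr n Y) φY φP q)

include hKP hq in
omit [LambdaRing.LambdaOps KY] in
/-- `[(p^* E)(d)] = [O(d)] p^K [E]`. -/
theorem phi_twF_pull (d : ℤ) {E : Y.Modules} (hE : FlatMod.IsFinLocFree E) :
    φP (KRR.cl (KRR.PY n Y) (KRR.twF n Y d ((Scheme.Modules.pullback (KRR.pr n Y)).obj E))) =
      q (φY (KRR.cl Y E)) * lin φP d := by
  rw [phi_twF hKP d (isFinLocFree_pullback _ hE), hq E hE, mul_comm]

include hKP hKY hq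

section Push

variable {g : KP →+ KY} (hg : KRR.IsPushPr n Y φP φY g)

include hg

/-- `p_K (p^K y · [O(m)]) = C(m + n, n) y` for `m ≥ 0`. -/
theorem push_q_mul_lin_nat (y : KY) (m : ℕ) : g (q y * lin φP m) = ((m + n).choose n) • y := by
  refine model_induction hKY (C := fun y => g (q y * lin φP m) = ((m + n).choose n) • y)
    (fun _ E _ hE => ?_) (fun a b ha hb => ?_) y
  · rw [← phi_twF_pull hKP hq m (isFinLocFree_of_rank hE)]
    exact PushTwistK.pushPr_twF_pull_nat hg E (isFinLocFree_of_rank hE) m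
  · rw [map_sub, sub_mul, map_sub, ha, hb, smul_sub]

variable [CompactSpace ↥Y]

/-- `p_K (p^K y · [O(k - n)]) = C(k, n) y` for `k ≥ 0`. -/
theorem push_q_mul_lin (y : KY) (k : ℕ) : g (q y * lin φP ((k : ℤ) - n)) = (k.choose n) • y := by
  refine model_induction hKY (C := fun y => g (q y * lin φP ((k : ℤ) - n)) = (k.choose n) • y)
    (fun m E _ hE => ?_) (fun a b ha hb => ?_) y
  · rw [← phi_twF_pull hKP hq _ (isFinLocFree_of_rank hE)]
    exact PushTwistK.pushPr_twF_pull hg E (isFinLocFree_of_rank hE) k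
  · rw [map_sub, sub_mul, map_sub, ha, hb, smul_sub]

/-- `p_K (p^K y · [O(-i)]) = 0` for `1 ≤ i ≤ n`. -/
theorem push_q_mul_lin_neg (y : KY) (i : ℕ) (hi : 1 ≤ i) (hin : i ≤ n) :
    g (q y * lin φP (-(i : ℤ))) = 0 := by
  have h := push_q_mul_lin hKP hKY hq hg y (n - i)
  have e : (((n - i : ℕ) : ℤ) - n) = -(i : ℤ) := by omega
  rwa [e, Nat.choose_eq_zero_of_lt (by omega), zero_smul] at h

omit [CompactSpace ↥Y] in
/-- `p_K (p^K y) = y`. -/
theorem push_q (y : KY) : g (q y) = y := by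
  have h := push_q_mul_lin_nat hKP hKY hq hg y 0
  rw [Nat.cast_zero, lin_zero hKP, mul_one, zero_add, Nat.choose_self, one_smul] at h
  exact h

/-- `p_K (p^K y · (1 - [O(-1)])^i) = y` for `i ≤ n`. -/
theorem push_q_mul_hyp_pow (y : KY) (i : ℕ) (hin : i ≤ n) : g (q y * hyp φP ^ i) = y := by
  have h1 : q y * hyp φP ^ i =
      ∑ j ∈ range (i + 1), ((-1 : ℤ) ^ j * (i.choose j : ℤ)) • (q y * lin φP (-(j : ℤ))) := by
    rw [hyp, sub_eq_neg_add, add_pow, mul_sum]
    refine sum_congr rfl fun j hj => ?_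
    rw [lin_neg_nat hKP, one_pow, mul_one, neg_pow, zsmul_eq_mul]
    push_cast
    ring
  rw [h1, map_sum, sum_range_succ']
  have h2 : ∑ k ∈ range i, g (((-1 : ℤ) ^ (k + 1) * (i.choose (k + 1) : ℤ)) •
      (q y * lin φP (-((k + 1 : ℕ) : ℤ)))) = 0 := by
    refine sum_eq_zero fun k hk => ?_
    have hk' := mem_range.1 hk
    rw [map_zsmul, push_q_mul_lin_neg hKP hKY hq hg y (k + 1) (by omega) (by omega), smul_zero]
  rw [h2, zero_add, map_zsmul]
  simp only [Nat.cast_zero, neg_zero, pow_zero, Nat.choose_zero_right, Nat.cast_one, mul_one,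
    one_smul, lin_zero hKP]
  exact push_q hKP hKY hq hg y

/-- `p_K (∑ p^K (y i) · (1 - [O(-1)])^i) = ∑ y i`. -/
theorem push_sum (y : ℕ → KY) : g (∑ i ∈ range (n + 1), q (y i) * hyp φP ^ i) =
    ∑ i ∈ range (n + 1), y i := by
  rw [map_sum]
  exact sum_congr rfl fun i hi => push_q_mul_hyp_pow hKP hKY hq hg (y i) i
    (by have := mem_range.1 hi; omega)

end Push

variable [CompactSpace ↥Y]

/-- `K(P^n_Y)` is free over `K(Y)` on `1, [O(1)], …, [O(n)]`. -/
theorem bijective_lin : Function.Bijective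
    (fun y : Fin (n + 1) → KY => ∑ i : Fin (n + 1), q (y i) * lin φP ((i : ℕ) : ℤ)) := by
  obtain ⟨m, A, inst, h, hopen, hs⟩ := S3197.exists_charts Y
  have hT' : PreservesFiniteLimits (tw n Y (-1)) := preservesFiniteLimits_tw n Y (-1)
  have hT'' : PreservesFiniteColimits (tw n Y (-1)) := preservesFiniteColimits_tw n Y (-1)
  have hT1 : ∀ i : ℕ, PreservesFiniteLimits (tw n Y (i : ℤ)) := fun i => preservesFiniteLimits_tw n Y i
  have hT2 : ∀ i : ℕ, PreservesFiniteColimits (tw n Y (i : ℤ)) :=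
    fun i => preservesFiniteColimits_tw n Y i
  have hf : PreservesFiniteLimits (Scheme.Modules.pullback (CohB1.ProjSpaceOver.toBase n Y)) :=
    PerfB.FlatPull.preservesFiniteLimits_pullback _
  let H := S3197.hyp Y n A h hs
  let eY : SGA6.Kvb Y ≃+ KY := AddEquiv.ofBijective φY hKY.bijective
  have key : ∀ (i : ℕ) (x : SGA6.Kvb Y), φP (Ega3A.K0Proj.t H i (Ega3A.K0Proj.f H x)) =
      q (φY x) * lin φP ((i : ℕ) : ℤ) := by
    intro i
    have h1 : φP.comp ((Ega3A.K0Proj.t H i).comp (Ega3A.K0Proj.f H)) =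
        ((AddMonoidHom.mulRight (lin φP ((i : ℕ) : ℤ))).comp q).comp φY := by
      refine Sga67.K0Loc.hom_ext fun E hE => ?_
      rw [AddMonoidHom.comp_apply, AddMonoidHom.comp_apply, Ega3A.K0Proj.f_mk, Ega3A.K0Proj.t_mk,
        ← Koszul.cl_eq_mk]
      refine (phi_twF_pull hKP hq i hE).trans ?_
      rw [Koszul.cl_eq_mk hE]
      rfl
    exact fun x => DFunLike.congr_fun h1 x
  have h2 := Ega3A.K0Proj.bijective H
  have h3 : (fun y : Fin (n + 1) → KY => ∑ i : Fin (n + 1), q (y i) * lin φP ((i : ℕ) : ℤ)) =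
      φP ∘ (fun x : Fin (n + 1) → SGA6.Kvb Y =>
        ∑ i : Fin (n + 1), Ega3A.K0Proj.t H (i : ℕ) (Ega3A.K0Proj.f H (x i))) ∘
          (fun y i => eY.symm (y i)) := by
    funext y
    simp only [Function.comp_apply]
    rw [map_sum]
    refine sum_congr rfl fun i _ => ?_
    rw [key]
    congr 2
    exact (eY.apply_symm_apply (y i)).symm
  rw [h3]
  exact hKP.bijective.comp (h2.comp (Equiv.piCongrRight fun _ => eY.symm.toEquiv).bijective)

/-- `K(P^n_Y)` is spanned over `K(Y)` by the `(1 - [O(-1)])^i`, `i ≤ n`. -/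
theorem surjective_hyp : Function.Surjective
    (fun y : Fin (n + 1) → KY => ∑ i : Fin (n + 1), q (y i) * hyp φP ^ (i : ℕ)) := by
  let Q : KY →+* KP := pullRingHom hKP hKY hq
  algebraize [Q]
  have hQ : ∀ y, algebraMap KY KP y = q y := fun _ => rfl
  let b : ℕ → KP := fun i => hyp φP ^ i
  let M : Submodule KY KP := Submodule.span KY (Set.range fun i : Fin (n + 1) => b i)
  have hM0 : ∀ i : ℕ, hyp φP ^ i ∈ M := by
    intro i
    rcases Nat.lt_or_ge i (n + 1) with hi | hi
    · exact Submodule.subset_span ⟨⟨i, hi⟩, rfl⟩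
    · obtain ⟨k, rfl⟩ := Nat.exists_eq_add_of_le hi
      rw [pow_add, hyp_pow_eq_zero hKP, zero_mul]
      exact zero_mem _
  have hM1 : ∀ x ∈ M, ∀ y ∈ M, x * y ∈ M := by
    intro x hx y hy
    refine Submodule.span_induction (p := fun x _ => x * y ∈ M) ?_ ?_ ?_ ?_ hx
    · rintro _ ⟨i, rfl⟩
      refine Submodule.span_induction (p := fun y _ => b i * y ∈ M) ?_ ?_ ?_ ?_ hy
      · rintro _ ⟨j, rfl⟩
        change hyp φP ^ (i : ℕ) * hyp φP ^ (j : ℕ) ∈ M
        rw [← pow_add]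
        exact hM0 _
      · rw [mul_zero]; exact zero_mem _
      · intro a c _ _ ha hc
        rw [mul_add]
        exact add_mem ha hc
      · intro r a _ ha
        rw [mul_smul_comm]
        exact M.smul_mem r ha
    · rw [zero_mul]; exact zero_mem _
    · intro a c _ _ ha hc
      rw [add_mul]
      exact add_mem ha hc
    · intro r a _ ha
      rw [smul_mul_assoc]
      exact M.smul_mem r ha
  have hM2 : lin φP 1 ∈ M := by
    have h1 : lin φP 1 = ∑ i ∈ range (n + 1), hyp φP ^ i := by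
      have h2 : (∑ i ∈ range (n + 1), hyp φP ^ i) * (hyp φP - 1) = hyp φP ^ (n + 1) - 1 :=
        geom_sum_mul _ _
      rw [hyp_pow_eq_zero hKP, zero_sub] at h2
      have h3 : hyp φP - 1 = -lin φP (-1) := by rw [hyp]; ring
      rw [h3, mul_neg, neg_inj] at h2
      have h4 := lin_mul_lin_neg hKP (1 : ℤ)
      calc lin φP 1 = lin φP 1 * ((∑ i ∈ range (n + 1), hyp φP ^ i) * lin φP (-1)) := by
            rw [h2, mul_one]
        _ = (lin φP 1 * lin φP (-1)) * ∑ i ∈ range (n + 1), hyp φP ^ i := by ring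
        _ = _ := by rw [h4, one_mul]
    rw [h1]
    exact sum_mem fun i _ => hM0 i
  have hM3 : ∀ i : ℕ, lin φP i ∈ M := by
    intro i
    rw [lin_nat hKP]
    induction i with
    | zero => rw [pow_zero]; simpa using hM0 0
    | succ i ih => rw [pow_succ]; exact hM1 _ ih _ hM2
  intro x
  obtain ⟨y, rfl⟩ := (bijective_lin hKP hKY hq).2 x
  have h4 : ∑ i : Fin (n + 1), q (y i) * lin φP ((i : ℕ) : ℤ) ∈ M := by
    refine sum_mem fun i _ => ?_
    have h5 : q (y i) * lin φP ((i : ℕ) : ℤ) = (y i) • lin φP ((i : ℕ) : ℤ) := by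
      rw [Algebra.smul_def, hQ]
    rw [h5]
    exact M.smul_mem _ (hM3 i)
  obtain ⟨c, hc⟩ := (Submodule.mem_span_range_iff_exists_fun KY).1 h4
  refine ⟨c, ?_⟩
  change ∑ i : Fin (n + 1), q (c i) * hyp φP ^ (i : ℕ) = _
  change _ = ∑ i : Fin (n + 1), q (y i) * lin φP ((i : ℕ) : ℤ)
  rw [← hc]
  exact sum_congr rfl fun i _ => by rw [Algebra.smul_def, hQ]

/-- `K(P^n_Y)` is free over `K(Y)` on the `(1 - [O(-1)])^i`, `i ≤ n`. -/
theorem bijective_hyp : Function.Bijective
    (fun y : Fin (n + 1) → KY => ∑ i : Fin (n + 1), q (y i) * hyp φP ^ (i : ℕ)) := by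
  let Q : KY →+* KP := pullRingHom hKP hKY hq
  algebraize [Q]
  have hQ : ∀ y, algebraMap KY KP y = q y := fun _ => rfl
  let L : (Fin (n + 1) → KY) →ₗ[KY] KP :=
    { toFun := fun y => ∑ i : Fin (n + 1), q (y i) * lin φP ((i : ℕ) : ℤ)
      map_add' := fun y z => by
        rw [← sum_add_distrib]
        exact sum_congr rfl fun i _ => by rw [Pi.add_apply, map_add, add_mul]
      map_smul' := fun c y => by
        rw [RingHom.id_apply, smul_sum]
        refine sum_congr rfl fun i _ => ?_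
        rw [Pi.smul_apply, smul_eq_mul, Algebra.smul_def, hQ, pull_mul hKP hKY hq, mul_assoc] }
  let L' : (Fin (n + 1) → KY) →ₗ[KY] KP :=
    { toFun := fun y => ∑ i : Fin (n + 1), q (y i) * hyp φP ^ (i : ℕ)
      map_add' := fun y z => by
        rw [← sum_add_distrib]
        exact sum_congr rfl fun i _ => by rw [Pi.add_apply, map_add, add_mul]
      map_smul' := fun c y => by
        rw [RingHom.id_apply, smul_sum]
        refine sum_congr rfl fun i _ => ?_
        rw [Pi.smul_apply, smul_eq_mul, Algebra.smul_def, hQ, pull_mul hKP hKY hq, mul_assoc] }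
  let e : (Fin (n + 1) → KY) ≃ₗ[KY] KP := LinearEquiv.ofBijective L (bijective_lin hKP hKY hq)
  have hs : Function.Surjective L' := surjective_hyp hKP hKY hq
  have h1 : Function.Injective (e.symm.toLinearMap.comp L') :=
    OrzechProperty.injective_of_surjective_endomorphism _
      (e.symm.surjective.comp hs)
  refine ⟨?_, hs⟩
  exact Function.Injective.of_comp (f := e.symm) h1

/-- Representation in powers of `[O(1)]`. -/
theorem existsUnique_lin (x : KP) : ∃! y : Fin (n + 1) → KY,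
    x = ∑ i : Fin (n + 1), q (y i) * lin φP ((i : ℕ) : ℤ) := by
  obtain ⟨y, hy⟩ := (bijective_lin hKP hKY hq).2 x
  exact ⟨y, hy.symm, fun z hz => (bijective_lin hKP hKY hq).1 (hz.symm.trans hy.symm)⟩

/-- Representation in powers of `1 - [O(-1)]`. -/
theorem existsUnique_hyp (x : KP) : ∃! y : Fin (n + 1) → KY,
    x = ∑ i : Fin (n + 1), q (y i) * hyp φP ^ (i : ℕ) := by
  obtain ⟨y, hy⟩ := (bijective_hyp hKP hKY hq).2 x
  exact ⟨y, hy.symm, fun z hz => (bijective_hyp hKP hKY hq).1 (hz.symm.trans hy.symm)⟩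

/-- `p^K` is injective. -/
theorem q_injective : Function.Injective q := by
  rw [injective_iff_map_eq_zero]
  intro y hy
  let c : Fin (n + 1) → KY := Function.update 0 0 y
  have h1 : (∑ i : Fin (n + 1), q (c i) * lin φP ((i : ℕ) : ℤ)) = 0 := by
    rw [Fin.sum_univ_succ]
    have h2 : ∀ i : Fin n, q (c i.succ) * lin φP ((i.succ : ℕ) : ℤ) = 0 := by
      intro i
      have : c i.succ = 0 := by
        simp only [c]
        rw [Function.update_of_ne (Fin.succ_ne_zero i)]
        rfl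
      rw [this, map_zero, zero_mul]
    rw [Finset.sum_eq_zero fun i _ => h2 i, add_zero]
    simp only [c, Function.update_self, hy, zero_mul]
  have h3 : (∑ i : Fin (n + 1), q ((0 : Fin (n + 1) → KY) i) * lin φP ((i : ℕ) : ℤ)) = 0 := by
    refine Finset.sum_eq_zero fun i _ => ?_
    rw [Pi.zero_apply, map_zero, zero_mul]
  have h4 := (bijective_lin hKP hKY hq).1 (h1.trans h3.symm)
  have h5 := congrFun h4 0
  simpa [c] using h5

end Pull

end Groth.Agent.Krr.H460.KPn
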