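import Groth.Agent.Ega3A.K0Proj

/-!
# The Koszul relation in `K₀` of projective space, abstract form

In the abstract setting of `Ega3A.K0Proj`: `t^{r+2} f ε = ∑_{i ≤ r} (-1)^i C(r+1, i+1) t^{r+1-i} f ε`.
Also the backwards recursion for Hilbert functions.
-/

set_option autoImplicit false

universe v' u' v u w

open CategoryTheory CategoryTheory.Limits Filter Finset

namespace Groth.Agent.Krr.H460.KoszulNum

open Groth.Agent.Sga67.K0Loc KZero Groth.Agent.Ega3A Groth.Agent.Ega3A.K0Proj

section abstract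

variable {S : Type u} [Category.{v} S] [Abelian S] {P : Type u'} [Category.{v'} P] [Abelian P]
    {VS : ObjectProperty S} {VP : ObjectProperty P} {r : ℕ}
    {fs : S ⥤ P} {T : ℕ → P ⥤ P} {T' : P ⥤ P} {fp : P → S} {Reg : ObjectProperty P}
    [fs.Additive] [PreservesFiniteLimits fs] [PreservesFiniteColimits fs]
    [∀ i, (T i).Additive] [∀ i, PreservesFiniteLimits (T i)] [∀ i, PreservesFiniteColimits (T i)]
    [T'.Additive] [PreservesFiniteLimits T'] [PreservesFiniteColimits T']
    (H : Hyp VS VP r fs T T' fp Reg)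

include H

omit [T'.Additive] [PreservesFiniteLimits T'] [PreservesFiniteColimits T'] in
/-- The Koszul relation. -/
theorem koszul_mk (E : S) (hE : VS E) :
    t H (r + 2) (f H (mk VS E hE)) = ∑ i ∈ range (r + 1), ((-1 : ℤ) ^ i * ((r + 1).choose (i + 1) : ℤ)) •
      t H (r + 1 - i) (f H (mk VS E hE)) := by
  let ε : K0sub VS := mk VS E hE
  obtain ⟨e, he⟩ := resolution H _ (H.fs_reg E hE) (H.T_mem 1 _ (H.fs_mem E hE))
  have he' : t H (r + 2) (f H ε) =
      ∑ i ∈ range (r + 1), (-1 : ℤ) ^ i • t H (r + 1 - i) (f H (e i)) := by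
    rw [← he, ← t_mk H 1 (fs.obj E) (H.fs_mem E hE), ← f_mk H E hE, t_add]
  -- the numerical identity
  have hr : ∀ i < r + 1, e i = ((r + 1).choose (i + 1)) • ε := by
    have h1 : Φ H (t H (r + 2) (f H ε)) =
        Φ H (∑ i ∈ range (r + 1), (-1 : ℤ) ^ i • t H (r + 1 - i) (f H (e i))) := by rw [he']
    rw [map_sum] at h1
    simp only [map_zsmul, Φ_t_f] at h1
    have h2 : ((fun n => (n + (r + 2) + r).choose r • ε : ℕ → K0sub VS) :
        Germ (atTop : Filter ℕ) (K0sub VS)) =
        ((fun n => ∑ i ∈ range (r + 1), (-1 : ℤ) ^ i • ((n + (r + 1 - i) + r).choose r • e i) :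
          ℕ → K0sub VS) : Germ (atTop : Filter ℕ) (K0sub VS)) := by
      rw [h1]
      have : (fun n => ∑ i ∈ range (r + 1), (-1 : ℤ) ^ i • ((n + (r + 1 - i) + r).choose r • e i)) =
          ∑ i ∈ range (r + 1), (-1 : ℤ) ^ i •
            (fun n => (n + (r + 1 - i) + r).choose r • e i : ℕ → K0sub VS) := by
        funext n
        simp
      rw [this]
      exact (map_sum (Germ.coeAddHom (M := K0sub VS) (atTop : Filter ℕ)) _ _).symm
    obtain ⟨N, hN⟩ := eventually_atTop.1 (Germ.coe_eq.1 h2)
    let x : ℕ → K0sub VS := fun k =>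
      (-1 : ℤ) ^ (r - k) • (e (r - k) - ((r + 1).choose (r - k + 1)) • ε)
    have hx : ∀ n, N + r + 1 ≤ n → ∑ k ∈ range (r + 1), (n + k).choose r • x k = 0 := by
      intro n hn
      rw [← sum_range_reflect]
      obtain ⟨m, rfl⟩ : ∃ m, n = m + r + 1 := ⟨n - (r + 1), by omega⟩
      have h3 := hN m (by omega)
      have h4 := BinomLemma.koszul_num r (m + r + 1)
      have h5 : ((m + (r + 2) + r).choose r) • ε =
          ∑ i ∈ range (r + 1), ((-1 : ℤ) ^ i * ((r + 1).choose (i + 1) : ℤ) *
            ((m + r + 1 + r - i).choose r : ℤ)) • ε := by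
        rw [← sum_smul, ← h4, natCast_zsmul]
        congr 2
        omega
      change ((m + (r + 2) + r).choose r) • ε = _ at h3
      rw [h5] at h3
      have h6 := sub_eq_zero.2 h3.symm
      rw [← sum_sub_distrib] at h6
      rw [← h6]
      refine sum_congr rfl fun i hi => ?_
      have hi' := mem_range.1 hi
      simp only [x]
      have e1 : r - (r + 1 - 1 - i) = i := by omega
      have e2 : m + r + 1 + (r + 1 - 1 - i) = m + (r + 1 - i) + r := by omega
      have e3 : m + r + 1 + r - i = m + (r + 1 - i) + r := by omega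
      rw [e1, e2, e3, smul_sub, smul_sub, smul_comm ((m + (r + 1 - i) + r).choose r) ((-1 : ℤ) ^ i)]
      congr 1
      simp only [← natCast_zsmul, smul_smul]
      congr 1
      ring
    intro i hi
    have h7 := BinomLemma.eq_zero r x (N + r + 1) hx (r - i) (by omega)
    simp only [x] at h7
    have e0 : r - (r - i) = i := by omega
    rw [e0] at h7
    have h8 : (-1 : ℤ) ^ i • ((-1 : ℤ) ^ i • (e i - ((r + 1).choose (i + 1)) • ε)) = 0 := by
      rw [h7, smul_zero]
    rw [smul_smul, ← mul_pow] at h8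
    simpa [sub_eq_zero] using h8
  rw [he']
  refine sum_congr rfl fun i hi => ?_
  rw [hr i (mem_range.1 hi), map_nsmul, map_nsmul, ← natCast_zsmul, smul_smul]

end abstract

section numeric

variable {K : Type w} [AddCommGroup K]

/-- `∑_{j ≤ n+1} (-1)^j C(n+1, j) C(k + n + 1 - j, n) = 0`. -/
theorem choose_sum (n k : ℕ) : ∑ j ∈ range (n + 2), ((-1 : ℤ) ^ j * ((n + 1).choose j : ℤ)) *
    ((k + n + 1 - j).choose n : ℤ) = 0 := by
  rw [sum_range_succ']
  have h := BinomLemma.koszul_num n k
  simp only [pow_zero, Nat.choose_zero_right, Nat.cast_one, mul_one, one_mul, Nat.sub_zero]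
  rw [h, ← sum_add_distrib]
  refine sum_eq_zero fun i _ => ?_
  have e : k + n + 1 - (i + 1) = k + n - i := by omega
  rw [e, pow_succ]
  ring

/-- Backwards recursion: a function on `ℤ` with values in an abelian group, annihilated by the `(n+1)`-st
difference, and equal to `C(n + m, n) • x` for `m ≥ 0`, vanishes at `-1, …, -n`. -/
theorem eq_zero_of_koszul (n : ℕ) (a : ℤ → K) (x : K)
    (h1 : ∀ m : ℤ, ∑ j ∈ range (n + 2), ((-1 : ℤ) ^ j * ((n + 1).choose j : ℤ)) • a (m - j) = 0)
    (h2 : ∀ m : ℕ, a m = ((m + n).choose n) • x) (k : ℕ) :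
    a ((k : ℤ) - n) = (k.choose n) • x := by
  -- descending induction
  have key : ∀ d k : ℕ, n ≤ k + d → a ((k : ℤ) - n) = (k.choose n) • x := by
    intro d
    induction d with
    | zero =>
      intro k hk
      obtain ⟨m, rfl⟩ : ∃ m, k = m + n := ⟨k - n, by omega⟩
      have : (((m + n : ℕ) : ℤ) - n) = m := by push_cast; ring
      rw [this, h2]
    | succ d ih =>
      intro k hk
      have h3 := h1 ((k : ℤ) + 1)
      rw [sum_range_succ] at h3
      have h4 : ∀ j ∈ range (n + 1), ((-1 : ℤ) ^ j * ((n + 1).choose j : ℤ)) • a ((k : ℤ) + 1 - j) =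
          ((-1 : ℤ) ^ j * ((n + 1).choose j : ℤ) * ((k + n + 1 - j).choose n : ℤ)) • x := by
        intro j hj
        have hj' := mem_range.1 hj
        have h5 := ih (k + n + 1 - j) (by omega)
        have e1 : ((k + n + 1 - j : ℕ) : ℤ) - n = (k : ℤ) + 1 - j := by omega
        rw [e1] at h5
        rw [h5, mul_smul _ ((k + n + 1 - j).choose n : ℤ), natCast_zsmul]
      rw [sum_congr rfl h4, ← sum_smul] at h3
      have h6 := choose_sum n k
      rw [sum_range_succ] at h6
      rw [eq_neg_of_add_eq_zero_left h6, neg_smul] at h3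
      have e2 : k + n + 1 - (n + 1) = k := by omega
      have e3 : (k : ℤ) + 1 - ((n + 1 : ℕ) : ℤ) = (k : ℤ) - n := by push_cast; ring
      rw [e2, e3, Nat.choose_self, Nat.cast_one, mul_one, mul_smul, natCast_zsmul] at h3
      have h7 := neg_add_eq_zero.1 h3
      have h8 : (-1 : ℤ) ^ (n + 1) • ((-1 : ℤ) ^ (n + 1) • (k.choose n • x)) =
        (-1 : ℤ) ^ (n + 1) • ((-1 : ℤ) ^ (n + 1) • a ((k : ℤ) - n)) := by rw [h7]
      rw [smul_smul, smul_smul, ← mul_pow] at h8
      simpa using h8.symm
  exact key n k (by omega)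

end numeric

end Groth.Agent.Krr.H460.KoszulNum
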