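import Groth.Agent.S3197
import Groth.Agent.Krr.H460.KoszulNum
import Groth.Agent.Sga5.ProjSmooth
import Groth.Agent.PerfB.FlatPull
import Groth.Prelude.Def_KRR

/-!
# The Koszul relation in `K₀` of vector bundles on `P^n_Y`

`koszul`: for `Y` quasi-compact, `E` finite locally free on `Y` and `m ∈ ℤ`,
`∑_{j ≤ n+1} (-1)^j C(n+1, j) [O(m - j) ⊗ p^* E] = 0` in `Kvb (P^n_Y)`.
-/

set_option autoImplicit false

universe u

open CategoryTheory CategoryTheory.Limits AlgebraicGeometry Finset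

namespace Groth.Agent.Krr.H460.Koszul

open Groth.Agent.Sga67.TwistOver Groth.Agent.Sga67.K0Loc KZero Groth.Agent.Ega3A
open Groth.Agent.CohqB.ProjBC

instance flat_toSpec (n : ℕ) (A : Type u) [CommRing A] : Flat (CohB1.ProjSpace.toSpec n A) := by
  have := Sga5.ProjSmooth.smooth_toSpec n A
  have : Smooth (CohB1.ProjSpace.toSpec n A) := SmoothOfRelativeDimension.smooth n _
  infer_instance

/-- `P^n_Y ⟶ Y` is flat. -/
instance flat_toBase (n : ℕ) (Y : Scheme.{u}) : Flat (CohB1.ProjSpaceOver.toBase n Y) :=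
  MorphismProperty.of_isPullback (isPullback_fstZ n Y) (flat_toSpec n _)

variable (n : ℕ) (Y : Scheme.{u})

/-- The class of a bundle. -/
theorem cl_eq_mk {X : Scheme.{u}} {M : X.Modules} (hM : FlatMod.IsFinLocFree M) :
    KRR.cl X M = mk (fun M : X.Modules => FlatMod.IsFinLocFree M) M hM :=
  clSub_eq_mk _ hM

/-- The twist by `O(j)`, `j ∈ ℤ`, on `Kvb (P^n_Y)`. -/
noncomputable def twK (j : ℤ) : SGA6.Kvb (KRR.PY n Y) →+ SGA6.Kvb (KRR.PY n Y) :=
  have := preservesFiniteLimits_tw n Y j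
  have := preservesFiniteColimits_tw n Y j
  SGA6.mapSub (tw n Y j) _ _ (isFinLocFree_tw n Y j)

theorem isFinLocFree_twF (j : ℤ) {M : (KRR.PY n Y).Modules} (hM : FlatMod.IsFinLocFree M) :
    FlatMod.IsFinLocFree (KRR.twF n Y j M) := isFinLocFree_tw n Y j M hM

theorem twK_cl (j : ℤ) {M : (KRR.PY n Y).Modules} (hM : FlatMod.IsFinLocFree M) :
    twK n Y j (KRR.cl _ M) = KRR.cl _ (KRR.twF n Y j M) := by
  have := preservesFiniteLimits_tw n Y j
  have := preservesFiniteColimits_tw n Y j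
  rw [cl_eq_mk hM, cl_eq_mk (isFinLocFree_twF n Y j hM)]
  exact mapSub_mk (tw n Y j) _ _ (isFinLocFree_tw n Y j) M hM

theorem cl_congr {X : Scheme.{u}} {M N : X.Modules} (e : Nonempty (M ≅ N))
    (hM : FlatMod.IsFinLocFree M) : KRR.cl X M = KRR.cl X N := by
  obtain ⟨e⟩ := e
  have hN := Dcoh.FinLocFree.isFinLocFree_of_iso e hM
  rw [cl_eq_mk hM, cl_eq_mk hN]
  exact mk_congr_of_zero e (isZero_zero _) (Dcoh.FinLocFree.isFinLocFree_of_isZero (isZero_zero _)) hM hN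

variable [CompactSpace ↥Y]

/-- The Koszul relation, for the twists by `O(1), …, O(n+2)`. -/
theorem koszul_pos (E : Y.Modules) (hE : FlatMod.IsFinLocFree E) :
    KRR.cl _ (KRR.twF n Y ((n + 2 : ℕ) : ℤ) ((Scheme.Modules.pullback (KRR.pr n Y)).obj E)) =
      ∑ i ∈ range (n + 1), ((-1 : ℤ) ^ i * ((n + 1).choose (i + 1) : ℤ)) •
        KRR.cl _ (KRR.twF n Y ((n + 1 - i : ℕ) : ℤ) ((Scheme.Modules.pullback (KRR.pr n Y)).obj E)) := by
  obtain ⟨m, A, inst, h, hopen, hs⟩ := S3197.exists_charts Y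
  have hT' : PreservesFiniteLimits (tw n Y (-1)) := preservesFiniteLimits_tw n Y (-1)
  have hT'' : PreservesFiniteColimits (tw n Y (-1)) := preservesFiniteColimits_tw n Y (-1)
  have hT1 : ∀ i : ℕ, PreservesFiniteLimits (tw n Y (i : ℤ)) := fun i => preservesFiniteLimits_tw n Y i
  have hT2 : ∀ i : ℕ, PreservesFiniteColimits (tw n Y (i : ℤ)) :=
    fun i => preservesFiniteColimits_tw n Y i
  have hf : PreservesFiniteLimits (Scheme.Modules.pullback (CohB1.ProjSpaceOver.toBase n Y)) :=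
    PerfB.FlatPull.preservesFiniteLimits_pullback _
  have hp : FlatMod.IsFinLocFree ((Scheme.Modules.pullback (KRR.pr n Y)).obj E) :=
    PerfB.FlatPull.isFinLocFree_pullback _ hE
  have key := KoszulNum.koszul_mk (S3197.hyp Y n A h hs) E hE
  rw [K0Proj.f_mk, K0Proj.t_mk] at key
  rw [cl_eq_mk (isFinLocFree_twF n Y _ hp)]
  refine key.trans (sum_congr rfl fun i _ => ?_)
  rw [K0Proj.t_mk, cl_eq_mk (isFinLocFree_twF n Y _ hp)]
  rfl

/-- The Koszul relation. -/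
theorem koszul (E : Y.Modules) (hE : FlatMod.IsFinLocFree E) (m : ℤ) :
    ∑ j ∈ range (n + 2), ((-1 : ℤ) ^ j * ((n + 1).choose j : ℤ)) •
      KRR.cl _ (KRR.twF n Y (m - j) ((Scheme.Modules.pullback (KRR.pr n Y)).obj E)) = 0 := by
  have hp : FlatMod.IsFinLocFree ((Scheme.Modules.pullback (KRR.pr n Y)).obj E) :=
    PerfB.FlatPull.isFinLocFree_pullback _ hE
  have h1 := congrArg (twK n Y (m - ((n + 2 : ℕ) : ℤ))) (koszul_pos n Y E hE)
  have h2 : ∀ k l : ℤ, m - ((n + 2 : ℕ) : ℤ) + k = l → twK n Y (m - ((n + 2 : ℕ) : ℤ))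
      (KRR.cl _ (KRR.twF n Y k ((Scheme.Modules.pullback (KRR.pr n Y)).obj E))) =
      KRR.cl _ (KRR.twF n Y l ((Scheme.Modules.pullback (KRR.pr n Y)).obj E)) := by
    intro k l hkl
    subst hkl
    rw [twK_cl n Y _ (isFinLocFree_twF n Y _ hp)]
    exact cl_congr (nonempty_tw_tw n Y _ _ _)
      (isFinLocFree_twF n Y _ (isFinLocFree_twF n Y _ hp))
  rw [map_sum, h2 _ m (by ring)] at h1
  rw [sum_range_succ']
  have e0 : m - ((0 : ℕ) : ℤ) = m := by simp
  rw [e0, h1]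
  simp only [pow_zero, Nat.choose_zero_right, Nat.cast_one, mul_one, one_smul]
  rw [← sum_add_distrib]
  refine sum_eq_zero fun i hi => ?_
  have hi' := mem_range.1 hi
  rw [map_zsmul, h2 _ (m - ((i + 1 : ℕ) : ℤ)) (by push_cast [Nat.cast_sub (show i ≤ n + 1 by omega)]; ring),
    ← add_smul, pow_succ]
  have e1 : (-1 : ℤ) ^ i * -1 * ((n + 1).choose (i + 1) : ℤ) +
      (-1 : ℤ) ^ i * ((n + 1).choose (i + 1) : ℤ) = 0 := by ring
  rw [e1, zero_smul]

end Groth.Agent.Krr.H460.Koszul
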