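import Groth.Agent.Krr.H460.RegTwist
import Groth.Agent.Krr.H460.Koszul

/-!
# The push-forward on `K` of the twists of bundles coming from the base

For a push-forward `g = p_K : K(P^n_Y) → K(Y)` (`KRR.IsPushPr`), `Y` quasi-compact and `E` finite locally free:
* `pushPr_twF_pull_nat`: `g [O(m) ⊗ p^* E] = C(m + n, n) • [E]` for `m ≥ 0`;
* `pushPr_twF_pull`: `g [O(k - n) ⊗ p^* E] = C(k, n) • [E]` for `k ≥ 0`.
No ring structure on `K(P)`, `K(Y)` is used.
-/

set_option autoImplicit false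

universe v w u

open CategoryTheory CategoryTheory.Limits AlgebraicGeometry Finset

namespace Groth.Agent.Krr.H460.PushTwistK

open Groth.Agent.Sga67.TwistOver

variable {n : ℕ} {Y : Scheme.{u}} {KP : Type v} {KY : Type w} [CommRing KP] [CommRing KY]
  {φP : SGA6.Kvb (KRR.PY n Y) →+ KP} {φY : SGA6.Kvb Y →+ KY} {g : KP →+ KY}
  (hg : KRR.IsPushPr n Y φP φY g)

include hg

/-- `p_K [O(m) ⊗ p^* E] = C(m + n, n) • [E]` for `m ≥ 0`. -/
theorem pushPr_twF_pull_nat (E : Y.Modules) (hE : FlatMod.IsFinLocFree E) (m : ℕ) :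
    g (φP (KRR.cl _ (KRR.twF n Y (m : ℤ) ((Scheme.Modules.pullback (KRR.pr n Y)).obj E)))) =
      ((m + n).choose n) • φY (KRR.cl Y E) := by
  have hp : FlatMod.IsFinLocFree ((Scheme.Modules.pullback (KRR.pr n Y)).obj E) :=
    PerfB.FlatPull.isFinLocFree_pullback _ hE
  rw [hg _ (Koszul.isFinLocFree_twF n Y _ hp)
    (RegTwist.isRegSheaf_twF_pull n E hE m (Int.natCast_nonneg m)), ← map_nsmul]
  exact congrArg φY (Sga67.PushTwist.clSub_push_tw_pull n Y m hE)

variable [CompactSpace ↥Y]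

/-- `p_K [O(k - n) ⊗ p^* E] = C(k, n) • [E]` for `k ≥ 0`. -/
theorem pushPr_twF_pull (E : Y.Modules) (hE : FlatMod.IsFinLocFree E) (k : ℕ) :
    g (φP (KRR.cl _ (KRR.twF n Y ((k : ℤ) - n) ((Scheme.Modules.pullback (KRR.pr n Y)).obj E)))) =
      (k.choose n) • φY (KRR.cl Y E) := by
  refine KoszulNum.eq_zero_of_koszul n (fun m => g (φP (KRR.cl _ (KRR.twF n Y m
    ((Scheme.Modules.pullback (KRR.pr n Y)).obj E))))) (φY (KRR.cl Y E)) (fun m => ?_)
    (fun m => pushPr_twF_pull_nat hg E hE m) k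
  have h := congrArg (fun t => g (φP t)) (Koszul.koszul n Y E hE m)
  simp only [map_sum, map_zsmul, map_zero] at h
  exact h

omit hg [CompactSpace ↥Y] in
/-- `[O(d) ⊗ O_P] = [O(d) ⊗ p^* O_Y]`. -/
theorem cl_twF_structure (d : ℤ) :
    KRR.cl _ (KRR.twF n Y d (Coh.structureModule (KRR.PY n Y))) =
      KRR.cl _ (KRR.twF n Y d ((Scheme.Modules.pullback (KRR.pr n Y)).obj (Coh.structureModule Y))) := by
  obtain ⟨e⟩ := RegTwist.nonempty_pullUnit n (Y := Y)
  refine (Koszul.cl_congr ⟨((DCoh.tensorBi (X := KRR.PY n Y)).obj (Twist.twistOver n Y d)).mapIso e⟩ ?_).symm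
  exact Koszul.isFinLocFree_twF n Y _ (PerfB.FlatPull.isFinLocFree_pullback _
    Sga67.TensorOps.isFinLocFree_structureModule)

/-- `p_K [O(k - n)] = C(k, n) • [O_Y]` for `k ≥ 0`. -/
theorem pushPr_twF_structure (k : ℕ) :
    g (φP (KRR.cl _ (KRR.twF n Y ((k : ℤ) - n) (Coh.structureModule (KRR.PY n Y))))) =
      (k.choose n) • φY (KRR.cl Y (Coh.structureModule Y)) := by
  rw [cl_twF_structure]
  exact pushPr_twF_pull hg _ Sga67.TensorOps.isFinLocFree_structureModule k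

end Groth.Agent.Krr.H460.PushTwistK
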