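import Groth.Prelude.Def_KRR
import Groth.Agent.CohqA.HDIZero
import Groth.Agent.CohqA.HOpen
import Groth.Agent.Sga67.PullVan
import Groth.Agent.Sga67.TwistOver

/-!
# Regularity of `O(m) ⊗ p^* E` on `P^n_Y` for `m ≥ 0`

* `isZero_RpushAb_of_charts`: `R^q p_* F = 0` if `H^q(P^n_V, F) = 0` for all affine opens `V` of `Y`.
* `isRegSheaf_of_charts`: the corresponding criterion for `KRR.IsRegSheaf`.
* `isRegSheaf_twF_pull`: `O(m) ⊗ p^* E` is regular for `m ≥ 0`, `E` finite locally free.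
* `isRegSheaf_twF_structure`: `O(m) ⊗ O` is regular for `m ≥ 0`.
-/

set_option autoImplicit false

universe u

open CategoryTheory CategoryTheory.Limits AlgebraicGeometry TopologicalSpace Opposite

namespace Groth.Agent.Krr.H460.RegTwist

open Groth.Agent.Ega3A.PChart Groth.Agent.Sga67.TwistOver Groth.Agent.Sga67.TwistProj

variable (n : ℕ) {Y : Scheme.{u}}

/-- The preimage of an affine open of the base is the image of a chart. -/
theorem preimage_eq (V : Y.Opens) (hV : IsAffineOpen V) :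
    KRR.pr n Y ⁻¹ᵁ V = chart n hV.fromSpec ''ᵁ ⊤ := by
  have h1 : Set.range hV.fromSpec = (V : Set Y) := hV.range_fromSpec
  apply SetLike.coe_injective
  have hp := isPullback_chart n hV.fromSpec
  ext x
  constructor
  · intro hx
    have hx' : (KRR.pr n Y) x ∈ Set.range hV.fromSpec := by rw [h1]; exact hx
    obtain ⟨z, hz⟩ := hx'
    obtain ⟨y, hy1, hy2⟩ := Scheme.exists_preimage_of_isPullback hp x z hz.symm
    exact ⟨y, trivial, hy1⟩
  · rintro ⟨y, -, rfl⟩
    have h2 : KRR.pr n Y (chart n hV.fromSpec y) ∈ (V : Set Y) := by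
      rw [← h1]
      refine ⟨CohB1.ProjSpace.toSpec n _ y, ?_⟩
      have := congrArg (fun g => g.base y) hp.w
      exact this.symm
    exact h2

/-- `R^q p_* F = 0` if `H^q` vanishes on the charts. -/
theorem isZero_RpushAb_of_charts (F : (KRR.PY n Y).Modules) (q : ℕ)
    (h : ∀ (V : Y.Opens) (hV : IsAffineOpen V),
      Subsingleton (Coh.HH (CohB1.ProjSpace n Γ(Y, V)) (F.restrict (chart n hV.fromSpec)) q)) :
    IsZero ((Coh.RpushAb (KRR.pr n Y) q).obj (Coh.toAb F)) := by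
  refine CohqA.HDIZero.isZero_RpushAb (KRR.pr n Y) _ q {V | IsAffineOpen V} Y.isBasis_affineOpens
    fun V hV => ?_
  have := h V hV
  exact (CohqA.HOpen.HHEquiv (chart n (IsAffineOpen.fromSpec hV)) F (KRR.pr n Y ⁻¹ᵁ V)
    (preimage_eq n V hV) q).toEquiv.subsingleton

/-- Criterion for regularity in terms of the cohomology of the charts. -/
theorem isRegSheaf_of_charts (F : (KRR.PY n Y).Modules)
    (h : ∀ q : ℕ, 1 ≤ q → ∀ (V : Y.Opens) (hV : IsAffineOpen V),
      Subsingleton (Coh.HH (CohB1.ProjSpace n Γ(Y, V))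
        ((KRR.twF n Y (-(q : ℤ)) F).restrict (chart n hV.fromSpec)) q)) :
    KRR.IsRegSheaf n Y F := fun q hq => isZero_RpushAb_of_charts n _ q (h q hq)

/-- `H^q(P^n_A, O(j) ⊗ g^* E) = 0` for `q ≥ 1`, `j ≥ -q`. -/
theorem subsingleton_chart {A : Type u} [CommRing A] (h : Spec (CommRingCat.of A) ⟶ Y)
    [IsOpenImmersion h] (E : Y.Modules) (hE : FlatMod.IsFinLocFree E) (j : ℤ) (q : ℕ)
    (hq : 1 ≤ q) (hj : -(q : ℤ) ≤ j) :
    Subsingleton (Coh.HH (CohB1.ProjSpace n A)
      (((tw n Y j).obj ((Scheme.Modules.pullback (CohB1.ProjSpaceOver.toBase n Y)).obj E)).restrict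
        (chart n h)) q) := by
  refine Fga.HShift.subsingleton_of_iso (restrictTensorIso n h j _ ≪≫
    (tA n A j).mapIso (Sga67.PullVan.restrictPullIso n h E)).symm q ?_
  have hE' : FlatMod.IsFinLocFree ((Scheme.Modules.pullback h).obj E) :=
    PerfB.FlatPull.isFinLocFree_pullback h hE
  exact hh_pullback _ hE' j q (S0844.result A n j q (by omega) (by omega))

/-- `O(m) ⊗ p^* E` is regular for `m ≥ 0` and `E` finite locally free. -/
theorem isRegSheaf_twF_pull (E : Y.Modules) (hE : FlatMod.IsFinLocFree E) (m : ℤ) (hm : 0 ≤ m) :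
    KRR.IsRegSheaf n Y (KRR.twF n Y m ((Scheme.Modules.pullback (KRR.pr n Y)).obj E)) := by
  refine isRegSheaf_of_charts n _ fun q hq V hV => ?_
  obtain ⟨e⟩ := nonempty_tw_tw n Y (-(q : ℤ)) m ((Scheme.Modules.pullback (KRR.pr n Y)).obj E)
  exact Fga.HShift.subsingleton_of_iso
    ((Scheme.Modules.restrictFunctor (chart n hV.fromSpec)).mapIso e.symm) q
    (subsingleton_chart n hV.fromSpec E hE (-(q : ℤ) + m) q hq (by omega))

/-- Regularity is invariant under isomorphisms. -/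
theorem isRegSheaf_of_iso {F G : (KRR.PY n Y).Modules} (e : F ≅ G) (hF : KRR.IsRegSheaf n Y F) :
    KRR.IsRegSheaf n Y G := by
  intro q hq
  let e1 : KRR.twF n Y (-(q : ℤ)) F ≅ KRR.twF n Y (-(q : ℤ)) G :=
    ((DCoh.tensorBi (X := KRR.PY n Y)).obj (Twist.twistOver n Y (-(q : ℤ)))).mapIso e
  exact (hF q hq).of_iso ((Coh.RpushAb (KRR.pr n Y) q).mapIso
    ((SheafOfModules.toSheaf (KRR.PY n Y).ringCatSheaf).mapIso e1.symm))

/-- `p^* O_Y ≅ O_P`. -/
theorem nonempty_pullUnit : Nonempty ((Scheme.Modules.pullback (KRR.pr n Y)).obj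
    (Coh.structureModule Y) ≅ Coh.structureModule (KRR.PY n Y)) :=
  Ega3B.PullTensor.nonempty_pullUnitIso (KRR.pr n Y)

/-- `O(m) ⊗ O_P` is regular for `m ≥ 0`. -/
theorem isRegSheaf_twF_structure (hO : FlatMod.IsFinLocFree (Coh.structureModule Y)) (m : ℤ)
    (hm : 0 ≤ m) : KRR.IsRegSheaf n Y (KRR.twF n Y m (Coh.structureModule (KRR.PY n Y))) := by
  obtain ⟨e⟩ := nonempty_pullUnit n (Y := Y)
  exact isRegSheaf_of_iso n (((DCoh.tensorBi (X := KRR.PY n Y)).obj
    (Twist.twistOver n Y m)).mapIso e) (isRegSheaf_twF_pull n _ hO m hm)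

end Groth.Agent.Krr.H460.RegTwist
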